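import Groth.Agent.SerreDLib.Vanish
import Groth.Agent.ProjAmpLib.Closed
import Groth.Agent.KoszOrthLib.Ample
import Groth.Agent.AlgzLib.Gens
import Groth.Agent.AmpleDevLib.Pull
import Groth.Agent.PicPnLib.BaseChange

/-!
# High twists on closed subschemes of projective space over an affine base
-/

set_option autoImplicit false
set_option linter.style.haveILetI false
set_option backward.isDefEq.respectTransparency false
set_option backward.isDefEq.respectTransparency.types false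
set_option maxHeartbeats 2000000

universe u

open CategoryTheory CategoryTheory.Limits AlgebraicGeometry TopologicalSpace CategoryTheory.Pretriangulated
open Groth.Agent Groth.Agent.KoszOrthLib
open ChowLib (toPZ Dplus)
open KFlatLib (pb puSec)

attribute [local instance] HasDerivedCategory.standard

noncomputable section

namespace SerreDLib

variable {X : Scheme.{u}}

/-- An exact functor preserves lower bounds. -/
theorem isGE_mapDerived {Z : Scheme.{u}} (F : X.Modules ⥤ Z.Modules) [F.Additive] [PreservesFiniteLimits F]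
    [PreservesFiniteColimits F] (K : DCoh.D X) (c : ℤ) [K.IsGE c] : (F.mapDerivedCategory.obj K).IsGE c :=
  (DerivedCategory.isGE_iff _ c).2 fun i hi => (F.map_isZero (DerivedCategory.isZero_of_isGE K c i hi)).of_iso
    ((DerLib.ExactHomology.homologyIso F i).app K)

/-- A morphism invertible over an open is invertible over it after direct image. -/
theorem isIso_restrict_push {P : Scheme.{u}} (i : X ⟶ P) (V : P.Opens) {M N : X.Modules} (h : M ⟶ N)
    (hh : IsIso ((Scheme.Modules.restrictFunctor (i ⁻¹ᵁ V).ι).map h)) :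
    IsIso ((Scheme.Modules.restrictFunctor V.ι).map ((Scheme.Modules.pushforward i).map h)) := by
  rw [Scheme.Modules.Hom.isIso_iff_isIso_app]
  intro W
  change IsIso (h.app (i ⁻¹ᵁ (V.ι ''ᵁ W)))
  have h2 : IsIso (h.app ((i ⁻¹ᵁ V).ι ''ᵁ ((i ⁻¹ᵁ V).ι ⁻¹ᵁ (i ⁻¹ᵁ (V.ι ''ᵁ W))))) :=
    (Scheme.Modules.Hom.isIso_iff_isIso_app.1 hh) ((i ⁻¹ᵁ V).ι ⁻¹ᵁ (i ⁻¹ᵁ (V.ι ''ᵁ W)))
  have hle : i ⁻¹ᵁ (V.ι ''ᵁ W) ≤ i ⁻¹ᵁ V := i.preimage_mono (V.ι_image_le W)
  rw [Scheme.Hom.image_preimage_eq_opensRange_inf, Scheme.Opens.opensRange_ι, inf_eq_right.mpr hle] at h2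
  exact h2

variable {Y : Scheme.{u}} (r : ℕ) (i : X ⟶ CohB1.ProjSpaceOver r Y)

/-- `i^* O(1)`. -/
abbrev L₁ : X.Modules := (Scheme.Modules.pullback i).obj (Twist.twistOver r Y 1)

theorem L₁_inv : PicF.IsInvertible (L₁ r i) := AmpleDevLib.isInvertible_pb i (PicPnLib.twistOver_inv r Y 1)

instance preservesFiniteLimits_pbTwist (n : ℤ) :
    PreservesFiniteLimits (DCoh.tensorRightMod ((Scheme.Modules.pullback i).obj (Twist.twistOver r Y n))) :=
  preservesFiniteLimits_tensorRightMod (AmpleDevLib.isInvertible_pb i (PicPnLib.twistOver_inv r Y n))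

instance preservesFiniteColimits_pbTwist (n : ℤ) :
    PreservesFiniteColimits (DCoh.tensorRightMod ((Scheme.Modules.pullback i).obj (Twist.twistOver r Y n))) :=
  preservesFiniteColimits_tensorRightMod (AmpleDevLib.isInvertible_pb i (PicPnLib.twistOver_inv r Y n))

/-- The iterated twist is the twist by `i^* O(m)`. -/
theorem nonempty_iterT_iso : ∀ m : ℕ,
    Nonempty (iterT (L₁ r i) m ≅ TD ((Scheme.Modules.pullback i).obj (Twist.twistOver r Y (m : ℤ))))
  | 0 => by
    let c : (Scheme.Modules.pullback i).obj (Twist.twistOver r Y ((0 : ℕ) : ℤ)) ≅ Coh.structureModule X :=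
      (Scheme.Modules.pullback i).mapIso (PicPnLib.twistOver_zero r Y).some ≪≫ KFlatLib.pullUnitIso i
    haveI : PreservesFiniteLimits (DCoh.tensorRightMod (Coh.structureModule X)) :=
      preservesFiniteLimits_tensorRightMod (AmpleThLib.tensorPow_isInvertible (L₁_inv r i) 0)
    haveI : PreservesFiniteColimits (DCoh.tensorRightMod (Coh.structureModule X)) :=
      preservesFiniteColimits_tensorRightMod (AmpleThLib.tensorPow_isInvertible (L₁_inv r i) 0)
    obtain ⟨e⟩ := nonempty_TD_unit (X := X)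
    obtain ⟨c'⟩ := nonempty_TD_congr c.symm
    exact ⟨e.symm ≪≫ c'⟩
  | m + 1 => by
    obtain ⟨e⟩ := nonempty_iterT_iso m
    let M := (Scheme.Modules.pullback i).obj (Twist.twistOver r Y (m : ℤ))
    have hc : PicF.IsInvertible (CohB1.tensorMod M (L₁ r i)) :=
      HilbPolyLib.isInvertible_tensor (AmpleDevLib.isInvertible_pb i (PicPnLib.twistOver_inv r Y m)) (L₁_inv r i)
    haveI := preservesFiniteLimits_tensorRightMod hc
    haveI := preservesFiniteColimits_tensorRightMod hc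
    obtain ⟨c⟩ := nonempty_TD_comp M (L₁ r i)
    let a : CohB1.tensorMod M (L₁ r i) ≅
        (Scheme.Modules.pullback i).obj (Twist.twistOver r Y ((m + 1 : ℕ) : ℤ)) :=
      (asIso (KFlatLib.pullθ i (Twist.twistOver r Y (m : ℤ)) (Twist.twistOver r Y 1))).symm ≪≫
        (Scheme.Modules.pullback i).mapIso ((PicPnLib.twistOver_add r Y m 1).some ≪≫
          eqToIso (congrArg (Twist.twistOver r Y) (by push_cast; ring)))
    obtain ⟨c'⟩ := nonempty_TD_congr a
    exact ⟨Functor.isoWhiskerRight e (TD (L₁ r i)) ≪≫ c ≪≫ c'⟩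

/-- The coordinate sections on `X`. -/
def sec (j : Fin (r + 1)) : Γ(L₁ r i, ⊤) :=
  puSec i (puSec (M := Twist.twistProjSpace r (ULift.{u} ℤ) 1) (toPZ r Y) (coordSec r (ULift.{u} ℤ) j))

/-- Their loci. -/
def locus (j : Fin (r + 1)) : X.Opens := i ⁻¹ᵁ (toPZ r Y ⁻¹ᵁ Dplus j)

theorem mem_locus_iff (j : Fin (r + 1)) (y : X) :
    y ∈ locus r i j ↔ AmpleLib.GenAt (L₁ r i) (sec r i j) (show y ∈ (⊤ : X.Opens) from trivial) := by
  refine Iff.symm ((AlgzLib.genAt_puSec_iff i (PicPnLib.twistOver_inv r Y 1)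
    (puSec (M := Twist.twistProjSpace r (ULift.{u} ℤ) 1) (toPZ r Y) (coordSec r (ULift.{u} ℤ) j))
    (x := y) trivial).trans ?_)
  exact (AlgzLib.genAt_puSec_iff (toPZ r Y) (PicPnLib.twist_inv r (ULift.{u} ℤ) 1)
    (coordSec r (ULift.{u} ℤ) j) (x := i y) trivial).trans (genAt_coordSec_iff r (ULift.{u} ℤ) j _)

theorem exists_mem_locus (y : X) : ∃ j, y ∈ locus r i j := by
  obtain ⟨j, hj⟩ := Opens.mem_iSup.mp (show toPZ r Y (i y) ∈ ⨆ j, Dplus j by rw [ChowLib.iSup_Dplus]; trivial)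
  exact ⟨j, hj⟩

variable [IsClosedImmersion i]

theorem isAffineOpen_locus [IsAffine Y] (j : Fin (r + 1)) : IsAffineOpen (locus r i j) := by
  haveI : IsAffineHom (toPZ r Y) := MorphismProperty.pullback_fst _ _ (isAffineHom_of_isAffine _)
  exact ((ChowLib.isAffineOpen_Dplus j).preimage (toPZ r Y)).preimage i

/-- Twisting preserves pseudo-coherence of the direct image on `P^r`. -/
theorem isPC_rpush_iterT [DCoh.HasRpush i] (E : DCoh.D X)
    (hE : ∀ k : ℤ, DCoh.IsPseudoCoherentD k ((DCoh.Rpush i).obj E)) (m : ℕ) (k : ℤ) :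
    DCoh.IsPseudoCoherentD k ((DCoh.Rpush i).obj ((iterT (L₁ r i) m).obj E)) := by
  refine KiehlLib.isPC_of_local fun x => ?_
  obtain ⟨j, hj⟩ := Opens.mem_iSup.mp
    (show toPZ r Y x ∈ ⨆ j, Dplus j by rw [ChowLib.iSup_Dplus]; trivial)
  let V : (CohB1.ProjSpaceOver r Y).Opens := toPZ r Y ⁻¹ᵁ Dplus j
  refine ⟨V, hj, ?_⟩
  let s := (iterS (L₁ r i) (sec r i j) m).app E
  obtain ⟨eE⟩ := Dual3Lib.nonempty_rpush_pushD i E
  obtain ⟨eT⟩ := Dual3Lib.nonempty_rpush_pushD i ((iterT (L₁ r i) m).obj E)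
  let p := (Groth.Agent.ImmPCLib.pushD i).map s
  haveI : IsIso ((DCoh.restrictD V.ι).map p) := by
    rw [DerivedCategory.isIso_iff]
    intro q
    refine (NatIso.isIso_map_iff (DerLib.ExactHomology.homologyIso (Scheme.Modules.restrictFunctor V.ι) q) _).2 ?_
    let Hn := DerivedCategory.homologyFunctor (CohB1.ProjSpaceOver r Y).Modules q
    let R := Scheme.Modules.restrictFunctor V.ι
    let ε := DerLib.ExactHomology.homologyIso (Scheme.Modules.pushforward i) q
    have h1 : IsIso ((Scheme.Modules.restrictFunctor (i ⁻¹ᵁ V).ι).map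
        ((DerivedCategory.homologyFunctor X.Modules q).map s)) := by
      haveI := isIso_restrictD_iterS (L₁ r i) (sec r i j) (L₁_inv r i) (i ⁻¹ᵁ V)
        (fun y hy => (mem_locus_iff r i j y).1 hy) E m
      exact (NatIso.isIso_map_iff
        (DerLib.ExactHomology.homologyIso (Scheme.Modules.restrictFunctor (i ⁻¹ᵁ V).ι) q) s).1
          (inferInstanceAs (IsIso ((DerivedCategory.homologyFunctor _ q).map
            ((DCoh.restrictD (i ⁻¹ᵁ V).ι).map s))))
    have h2 := isIso_restrict_push i V _ h1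
    change IsIso (R.map (Hn.map p))
    exact (NatIso.isIso_map_iff (Functor.isoWhiskerRight ε R) s).2 h2
  exact PerfLib.isPC_of_iso ((DCoh.restrictD V.ι).mapIso eE ≪≫ asIso ((DCoh.restrictD V.ι).map p) ≪≫
    ((DCoh.restrictD V.ι).mapIso eT).symm) (isPC_restrictD V.ι (hE k))

/-- The relative pseudo-coherence from the direct image. -/
theorem rel_of_rpush [DCoh.HasRpush i] (E : DCoh.D X)
    (hE : ∀ k : ℤ, DCoh.IsPseudoCoherentD k ((DCoh.Rpush i).obj E)) :
    DerSch.IsPseudoCoherentRelAll (i ≫ CohB1.ProjSpaceOver.toBase r Y) E := fun k => by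
  haveI : Smooth (CohB1.ProjSpaceOver.toBase r Y) := RTrivLib.smooth_toBase r Y
  let F := DerivedCategory.Q.objPreimage E
  let eF : DCoh.toD X F ≅ E := DerivedCategory.Q.objObjPreimageIso E
  obtain ⟨ep⟩ := ImmPCLib.pushD_toD i F
  obtain ⟨er⟩ := Dual3Lib.nonempty_rpush_pushD i (DCoh.toD X F)
  exact RelPCSchLib.rel_of_iso _ eF
    ((RelPCSchLib.rel_immersion_comp_iff i (CohB1.ProjSpaceOver.toBase r Y) k F).1.2
      (PerfLib.isPC_of_iso ((DCoh.Rpush i).mapIso eF.symm ≪≫ er ≪≫ ep) (hE k)))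

/-- **High twists** have pseudo-coherent direct image without cohomology in degrees above `a`. -/
theorem exists_bound_twist [IsAffine Y] [DCoh.HasRpush i]
    [DCoh.HasRpush (i ≫ CohB1.ProjSpaceOver.toBase r Y)]
    [∀ n : ℤ, DCoh.HasLTensorMod ((Scheme.Modules.pullback i).obj (Twist.twistOver r Y n))]
    (E : DCoh.D X) (a b : ℤ) [E.IsGE b] [E.IsLE a]
    (hE : ∀ m : ℤ, DCoh.IsPseudoCoherentD m ((DCoh.Rpush i).obj E)) :
    ∃ N : ℤ, ∀ n : ℤ, N ≤ n →
      (∀ m : ℤ, DCoh.IsPseudoCoherentD m ((DCoh.Rpush (i ≫ CohB1.ProjSpaceOver.toBase r Y)).obj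
        ((DCoh.LTensorMod ((Scheme.Modules.pullback i).obj (Twist.twistOver r Y n))).obj E))) ∧
      ((DCoh.Rpush (i ≫ CohB1.ProjSpaceOver.toBase r Y)).obj
        ((DCoh.LTensorMod ((Scheme.Modules.pullback i).obj (Twist.twistOver r Y n))).obj E)).IsLE a := by
  let g := CohB1.ProjSpaceOver.toBase r Y
  let f := i ≫ g
  haveI : IsProper g := ChowLib.isProper_toBase r Y
  haveI : IsProper f := inferInstanceAs (IsProper (i ≫ g))
  haveI : CompactSpace X := QuasiCompact.compactSpace_of_compactSpace f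
  haveI : QuasiSeparatedSpace X := quasiSeparatedSpace_of_quasiSeparated f
  haveI : PreservesFiniteLimits (DCoh.tensorRightMod (L₁ r i)) := preservesFiniteLimits_pbTwist r i 1
  haveI : PreservesFiniteColimits (DCoh.tensorRightMod (L₁ r i)) := preservesFiniteColimits_pbTwist r i 1
  haveI := DCohRestrLib.hasRpush g
  obtain ⟨_, _⟩ := QRlimLib.exists_isTriangulated_rpush f
  have hpc : ∀ (m : ℕ) (k : ℤ), DCoh.IsPseudoCoherentD k ((DCoh.Rpush f).obj ((iterT (L₁ r i) m).obj E)) :=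
    fun m k => ProjNatLib.isPC_rpush_proj r i _ (rel_of_rpush r i _ (isPC_rpush_iterT r i E hE m)) k
  have hq : DCoh.IsQCohD E := ProjNatLib.isQCohD_of_rel _ (rel_of_rpush r i E hE)
  have hbd : ∀ m : ℕ, ((iterT (L₁ r i) m).obj E).IsLE a ∧ ((iterT (L₁ r i) m).obj E).IsGE b := by
    intro m
    induction m with
    | zero => exact ⟨‹E.IsLE a›, ‹E.IsGE b›⟩
    | succ m ih =>
      haveI := ih.1
      haveI := ih.2
      exact ⟨isLE_mapDerived (DCoh.tensorRightMod (L₁ r i)) ((iterT (L₁ r i) m).obj E) a,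
        isGE_mapDerived (DCoh.tensorRightMod (L₁ r i)) ((iterT (L₁ r i) m).obj E) b⟩
  have hamp : ∀ m : ℕ, ((DCoh.Rpush f).obj ((iterT (L₁ r i) m).obj E)).IsLE (a + r) := by
    intro m
    haveI := (hbd m).1
    haveI := (hbd m).2
    obtain ⟨ec⟩ := Dual3Lib.nonempty_rpush_comp i g ((iterT (L₁ r i) m).obj E)
    haveI := ProjAmpLib.isLE_rpush_closed i ((iterT (L₁ r i) m).obj E) a
    haveI := QRlimLib.rpush_isGE i ((iterT (L₁ r i) m).obj E) b
    haveI := ProjAmpLib.isLE_rpush r Y ((DCoh.Rpush i).obj ((iterT (L₁ r i) m).obj E))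
      (ProjAmpLib.isQCohD_of_isPC (isPC_rpush_iterT r i E hE m)) a b
    exact DerivedCategory.TStructure.t.isLE_of_iso ec (a + r)
  obtain ⟨N, hN⟩ := exists_hom_bound f (L₁ r i) (L₁_inv r i) (sec r i) (locus r i) (mem_locus_iff r i)
    (isAffineOpen_locus r i) (exists_mem_locus r i) E hq a (a + r) hamp hpc
  refine ⟨N, fun n hn => ?_⟩
  obtain ⟨m, rfl⟩ : ∃ m : ℕ, n = m := ⟨n.toNat, by omega⟩
  obtain ⟨e₁⟩ := nonempty_iterT_iso r i m
  obtain ⟨e₂⟩ := nonempty_LTensorMod_iso_TD ((Scheme.Modules.pullback i).obj (Twist.twistOver r Y (m : ℤ)))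
  let e := (DCoh.Rpush f).mapIso (e₁.app E ≪≫ (e₂.app E).symm)
  haveI := hN m (by omega)
  exact ⟨fun k => PerfLib.isPC_of_iso e (hpc m k), DerivedCategory.TStructure.t.isLE_of_iso e a⟩

end SerreDLib
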