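import Groth.Agent.SerreDLib.Lift

/-!
# Nilpotence: high twists receive no maps
-/

set_option autoImplicit false
set_option linter.style.haveILetI false
set_option backward.isDefEq.respectTransparency false
set_option backward.isDefEq.respectTransparency.types false
set_option maxHeartbeats 1000000

universe u

open CategoryTheory CategoryTheory.Limits AlgebraicGeometry TopologicalSpace CategoryTheory.Pretriangulated
open Groth.Agent Groth.Agent.KoszOrthLib

attribute [local instance] HasDerivedCategory.standard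

noncomputable section

namespace SerreDLib

variable {X : Scheme.{u}} (L : X.Modules) [PreservesFiniteLimits (DCoh.tensorRightMod L)]
  [PreservesFiniteColimits (DCoh.tensorRightMod L)]

/-- A map vanishing on the locus of a section is killed by a power of the section. -/
theorem exists_kill [CompactSpace X] [QuasiSeparatedSpace X] (hL : PicF.IsInvertible L) (σ : Γ(L, ⊤))
    (U : X.Opens) (hU : ∀ y, y ∈ U ↔ AmpleLib.GenAt L σ (show y ∈ (⊤ : X.Opens) from trivial))
    (hUc : IsCompact (U : Set X)) (K : DCoh.D X) (hK : DCoh.IsQCohD K) (y : O₀ X ⟶ K)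
    (hy : (DCoh.restrictD U.ι).map y = 0) : ∃ N : ℕ, y ≫ (iterS L σ N).app K = 0 := by
  haveI : CompactSpace (U : Scheme.{u}) := isCompact_iff_compactSpace.mp hUc
  haveI : QuasiCompact U.ι := quasiCompact_of_compactSpace _
  haveI := DCohRestrLib.hasRpush U.ι
  let adj := restrictRpushAdj U.ι
  haveI : (DCoh.Rpush U.ι).Additive := adj.right_adjoint_additive
  obtain ⟨Λ, ι, d, hT⟩ := distinguished_cocone_triangle₁ (adj.unit.app K)
  have h0 : y ≫ adj.unit.app K = 0 := by
    have h1 := adj.unit.naturality y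
    simp only [Functor.id_map, Functor.comp_map] at h1
    rw [h1, hy, Functor.map_zero, comp_zero]
  obtain ⟨w, hw⟩ := Triangle.coyoneda_exact₂ _ hT y h0
  change y = w ≫ ι at hw
  have hΛU : IsZero ((DCoh.restrictD U.ι).obj Λ) := by
    haveI := isIso_restrictD_unit U.ι adj K
    exact (((DCoh.restrictD U.ι).mapTriangle.obj (Triangle.mk ι (adj.unit.app K) d)).isZero₁_iff_isIso₂
      ((DCoh.restrictD U.ι).map_distinguished _ hT)).2 ‹_›
  have hΛq : DCoh.IsQCohD Λ := KFlatLib.isQCohD₂ (inv_rot_of_distTriang _ hT)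
    (KFlatLib.isQCohD_shift (QRlimLib.isQCohD_rpush U.ι (isQCohD_restrictD U.ι hK)) (-1)) hK
  obtain ⟨N, hN⟩ := exists_iterS_kill L σ hL (isPerfect_inD_unit X) hΛq
    (fun i z hz hg => (DCohRestrLib.isZero_restrictD_iff U Λ).1 hΛU i z ((hU z).2 hg) hz) w
  refine ⟨N, ?_⟩
  have hnat : ι ≫ (iterS L σ N).app K = (iterS L σ N).app Λ ≫ (iterT L N).map ι :=
    (iterS L σ N).naturality ι
  rw [hw, Category.assoc, hnat, ← Category.assoc, hN, zero_comp]

theorem kill_mono {σ : Γ(L, ⊤)} {K : DCoh.D X} {y : O₀ X ⟶ K} {N : ℕ}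
    (h : y ≫ (iterS L σ N).app K = 0) : ∀ M : ℕ, y ≫ (iterS L σ (N + M)).app K = 0
  | 0 => h
  | M + 1 => by
    change y ≫ ((iterS L σ (N + M)).app K ≫ (sD L σ).app ((iterT L (N + M)).obj K)) = 0
    rw [← Category.assoc, kill_mono h M, zero_comp]

variable {q : ℕ} (σ : Fin q → Γ(L, ⊤)) (K : DCoh.D X)

/-- A multiplication by a monomial of degree `m`. -/
def IsMon (m : ℕ) (f : K ⟶ (iterT L m).obj K) : Prop :=
  ∃ c : Fin q → ℕ, ∑ j, c j = m ∧ ∀ j, ∃ h : (iterT L (c j)).obj K ⟶ (iterT L m).obj K,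
    f = (iterS L (σ j) (c j)).app K ≫ h

theorem isMon_zero : IsMon L σ K 0 (𝟙 K) := by
  refine ⟨fun _ => 0, by simp, fun j => ⟨𝟙 K, ?_⟩⟩
  exact (Category.comp_id (𝟙 K)).symm

theorem IsMon.mul {m : ℕ} {f : K ⟶ (iterT L m).obj K} (hf : IsMon L σ K m f) (j₀ : Fin q) :
    IsMon L σ K (m + 1) (f ≫ (sD L (σ j₀)).app ((iterT L m).obj K)) := by
  classical
  obtain ⟨c, hc, hh⟩ := hf
  refine ⟨Function.update c j₀ (c j₀ + 1), ?_, fun j => ?_⟩
  · rw [Finset.sum_update_of_mem (Finset.mem_univ j₀)]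
    rw [← hc, Finset.sum_eq_add_sum_sdiff_singleton_of_mem (Finset.mem_univ j₀) c]
    omega
  · obtain ⟨h, rfl⟩ := hh j
    by_cases hj : j = j₀
    · subst hj
      rw [Function.update_self]
      refine ⟨(TD L).map h, ?_⟩
      change _ = ((iterS L (σ j) (c j)).app K ≫ (sD L (σ j)).app ((iterT L (c j)).obj K)) ≫ (TD L).map h
      rw [Category.assoc, Category.assoc, ← (sD L (σ j)).naturality h]
      rfl
    · rw [Function.update_of_ne hj]
      exact ⟨h ≫ (sD L (σ j₀)).app ((iterT L m).obj K), by rw [Category.assoc]⟩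

/-- **Nilpotence.** -/
theorem eq_zero_of_large
    (surj : ∀ (m : ℕ) (x : O₀ X ⟶ (iterT L (m + 1)).obj K),
      x ∈ Span L (List.ofFn σ) ((iterT L m).obj K))
    (l : ℕ) (hl : ∀ (j : Fin q) (y : O₀ X ⟶ K), y ≫ (iterS L (σ j) l).app K = 0)
    (m : ℕ) (hm : q * l < m) (x : O₀ X ⟶ (iterT L m).obj K) : x = 0 := by
  have key : ∀ (m : ℕ) (x : O₀ X ⟶ (iterT L m).obj K), x ∈ AddSubgroup.closure
      {z : O₀ X ⟶ (iterT L m).obj K | ∃ (y : O₀ X ⟶ K) (f : _), IsMon L σ K m f ∧ z = y ≫ f} := by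
    intro m
    induction m with
    | zero => exact fun x => AddSubgroup.subset_closure ⟨x, 𝟙 K, isMon_zero L σ K, (Category.comp_id x).symm⟩
    | succ m ih =>
      intro x
      refine (AddSubgroup.closure_le _).2 ?_ (surj m x)
      rintro _ ⟨τ, hτ, y, rfl⟩
      obtain ⟨j, rfl⟩ := List.mem_ofFn.1 hτ
      have h1 : y ≫ (sD L (σ j)).app ((iterT L m).obj K) ∈ (AddSubgroup.closure
          {z : O₀ X ⟶ (iterT L m).obj K | ∃ (y : O₀ X ⟶ K) (f : _), IsMon L σ K m f ∧ z = y ≫ f}).map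
            (Preadditive.rightComp (O₀ X) ((sD L (σ j)).app ((iterT L m).obj K))) := ⟨y, ih y, rfl⟩
      rw [AddMonoidHom.map_closure] at h1
      refine AddSubgroup.closure_mono ?_ h1
      rintro _ ⟨_, ⟨y', f, hf, rfl⟩, rfl⟩
      exact ⟨y', f ≫ (sD L (σ j)).app ((iterT L m).obj K), IsMon.mul L σ K hf j,
        (Category.assoc y' f ((sD L (σ j)).app ((iterT L m).obj K)) :)⟩
  have h0 := key m x
  refine AddSubgroup.mem_bot.1 ((AddSubgroup.closure_le _).2 ?_ h0)
  rintro _ ⟨y, f, ⟨c, hc, hh⟩, rfl⟩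
  obtain ⟨j, hj⟩ : ∃ j, l ≤ c j := by
    by_contra hne
    simp only [not_exists, not_le] at hne
    have : ∑ j, c j ≤ ∑ _j : Fin q, l := Finset.sum_le_sum fun j _ => (hne j).le
    simp at this
    omega
  obtain ⟨h, rfl⟩ := hh j
  obtain ⟨p, hp⟩ := Nat.exists_eq_add_of_le hj
  have h2 := kill_mono L (hl j y) p
  rw [← hp] at h2
  change y ≫ (iterS L (σ j) (c j)).app K ≫ h = 0
  rw [← Category.assoc, h2, zero_comp]

end SerreDLib
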