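import Groth.Agent.KoszOrthLib.Window

/-!
# Maps from the structure sheaf into high twists are divisible by the sections
-/

set_option autoImplicit false
set_option linter.style.haveILetI false
set_option backward.isDefEq.respectTransparency false
set_option backward.isDefEq.respectTransparency.types false
set_option maxHeartbeats 1000000

universe u

open CategoryTheory CategoryTheory.Limits AlgebraicGeometry TopologicalSpace CategoryTheory.Pretriangulated
open Groth.Agent Groth.Agent.KoszOrthLib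

attribute [local instance] HasDerivedCategory.standard

noncomputable section

namespace SerreDLib

variable {X : Scheme.{u}}

/-- The structure sheaf in degree zero. -/
abbrev O₀ (X : Scheme.{u}) : DCoh.D X := DCoh.inD X (Coh.structureModule X)

/-- No maps from `O` in positive degrees. -/
def Van (K : DCoh.D X) : Prop := ∀ i : ℤ, 0 < i → ∀ φ : O₀ X ⟶ K⟦i⟧, φ = 0

theorem Van.of_iso {K K' : DCoh.D X} (e : K ≅ K') (h : Van K) : Van K' := fun i hi φ => by
  have h1 := h i hi (φ ≫ (shiftFunctor (DCoh.D X) i).map e.inv)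
  exact zero_of_comp_mono _ h1

/-- In a triangle the third vertex inherits the vanishing. -/
theorem Van.obj₃ (T : Triangle (DCoh.D X)) (hT : T ∈ distTriang _) (h₁ : Van T.obj₁) (h₂ : Van T.obj₂) :
    Van T.obj₃ := fun i hi φ => by
  have hTi := Triangle.shift_distinguished T hT i
  have h0 : φ ≫ ((Triangle.shiftFunctor (DCoh.D X) i).obj T).mor₃ = 0 := by
    have h1 := h₁ (i + 1) (by omega)
      ((φ ≫ ((Triangle.shiftFunctor (DCoh.D X) i).obj T).mor₃) ≫
        ((shiftFunctorAdd' (DCoh.D X) i 1 (i + 1) rfl).app T.obj₁).inv)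
    exact zero_of_comp_mono _ h1
  obtain ⟨ψ, hψ⟩ := Triangle.coyoneda_exact₃ _ hTi φ h0
  rw [hψ, show ψ = 0 from h₂ i hi ψ]
  exact zero_comp

variable (L : X.Modules) [PreservesFiniteLimits (DCoh.tensorRightMod L)]
  [PreservesFiniteColimits (DCoh.tensorRightMod L)]

/-- Sums of multiples of the listed sections. -/
def Span (l : List Γ(L, ⊤)) (F : DCoh.D X) : AddSubgroup (O₀ X ⟶ (TD L).obj F) :=
  AddSubgroup.closure {z | ∃ σ ∈ l, ∃ y : O₀ X ⟶ F, z = y ≫ (sD L σ).app F}

/-- Every map `O ⟶ F(1)` is a combination of multiples of the sections, if the negative twists of `F`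
have no higher cohomology. -/
theorem mem_span (hL : PicF.IsInvertible L) :
    ∀ (l : List Γ(L, ⊤)) (F : DCoh.D X) (S : Set X), IsClosed S →
      (∀ i : ℤ, CohB1.support (DCoh.HD F i) ⊆ S) →
      (∀ y ∈ S, ∃ σ ∈ l, AmpleLib.GenAt L σ (show y ∈ (⊤ : X.Opens) from trivial)) →
      (∀ r : ℕ, 1 ≤ r → r ≤ l.length → ∀ G : DCoh.D X, Nonempty ((iterT L r).obj G ≅ F) → Van G) →
      ∀ x : O₀ X ⟶ (TD L).obj F, x ∈ Span L l F
  | [], F, S, _, hF, hl, _, x => by
    have hz : IsZero F := (DCohRestrLib.isZero_iff_HD F).2 fun i => by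
      rw [DCohRestrLib.isZero_iff_support_empty, Set.eq_empty_iff_forall_notMem]
      intro y hy
      obtain ⟨σ, hσ, -⟩ := hl y (hF i hy)
      simp at hσ
    rw [((TD L).map_isZero hz).eq_of_tgt x 0]
    exact zero_mem _
  | σ :: l, F, S, hS, hF, hl, hv, x => by
    haveI := isEquivalence_TD hL
    let F₁ := (TD L).objPreimage F
    let e₁ : (TD L).obj F₁ ≅ F := (TD L).objObjPreimageIso F
    let f : F₁ ⟶ F := (TD L).preimage (e₁.hom ≫ (sD L σ).app F)
    have hf : (TD L).map f = e₁.hom ≫ (sD L σ).app F := (TD L).map_preimage _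
    obtain ⟨B, g, h, hT⟩ := distinguished_cocone_triangle f
    have hTT := (TD L).map_distinguished _ hT
    -- the sections kill the cone where `σ` generates
    let S' : Set X := S ∩ {y | ¬ AmpleLib.GenAt L σ (show y ∈ (⊤ : X.Opens) from trivial)}
    have hS' : IsClosed S' := hS.inter (TwistLib.isOpen_genAt hL σ).isClosed_compl
    have hB : ∀ i : ℤ, CohB1.support (DCoh.HD B i) ⊆ S' := fun i => by
      rw [← support_HD_TD hL B i]
      let T' : Triangle (DCoh.D X) := Triangle.mk ((sD L σ).app F) ((TD L).map g)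
        (((TD L).mapTriangle.obj (Triangle.mk f g h)).mor₃ ≫ (shiftFunctor (DCoh.D X) (1 : ℤ)).map e₁.hom)
      have hT' : T' ∈ distTriang _ := by
        refine isomorphic_distinguished _ hTT _ (Triangle.isoMk _ _ e₁.symm (Iso.refl _) (Iso.refl _) ?_ ?_ ?_)
        · change (sD L σ).app F ≫ 𝟙 _ = e₁.inv ≫ (TD L).map f
          rw [hf, Category.comp_id, Iso.inv_hom_id_assoc]
        · change (TD L).map g ≫ 𝟙 _ = 𝟙 _ ≫ (TD L).map g
          simp
        · change ((((TD L).mapTriangle.obj (Triangle.mk f g h)).mor₃ ≫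
              (shiftFunctor (DCoh.D X) (1 : ℤ)).map e₁.hom) ≫
            (shiftFunctor (DCoh.D X) (1 : ℤ)).map e₁.inv) = 𝟙 _ ≫ ((TD L).mapTriangle.obj (Triangle.mk f g h)).mor₃
          exact (Category.assoc _ _ _).trans ((congrArg (_ ≫ ·) ((Functor.map_comp _ _ _).symm.trans
            ((congrArg _ e₁.hom_inv_id).trans ((shiftFunctor (DCoh.D X) (1 : ℤ)).map_id _)))).trans ((Category.comp_id _).trans (Category.id_comp _).symm))
      exact support_obj₃_sD L hL σ _ _ hT' hF hS i
    have hvB : ∀ r : ℕ, 1 ≤ r → r ≤ l.length → ∀ G : DCoh.D X, Nonempty ((iterT L r).obj G ≅ B) → Van G := by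
      rintro r h1 h2 G ⟨eG⟩
      haveI := isEquivalence_iterT hL r
      let Ga := (iterT L r).objPreimage F₁
      let ea : (iterT L r).obj Ga ≅ F₁ := (iterT L r).objObjPreimageIso F₁
      let Gb := (iterT L r).objPreimage F
      let eb : (iterT L r).obj Gb ≅ F := (iterT L r).objObjPreimageIso F
      let f' : Ga ⟶ Gb := (iterT L r).preimage (ea.hom ≫ f ≫ eb.inv)
      obtain ⟨Gc, g', d', hG⟩ := distinguished_cocone_triangle f'
      obtain ⟨d'', hd⟩ := exists_iterT_triangle L _ _ _ hG r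
      let eT := isoTriangleOfIso₁₂ _ _ hd hT ea eb (by
        change (iterT L r).map f' ≫ eb.hom = ea.hom ≫ f
        rw [Functor.map_preimage, Category.assoc, Category.assoc, Iso.inv_hom_id, Category.comp_id])
      let ec : Gc ≅ G := (iterT L r).preimageIso (Triangle.π₃.mapIso eT ≪≫ eG.symm)
      refine Van.of_iso ec (Van.obj₃ _ hG ?_ ?_)
      · exact hv (r + 1) (by omega) (by simp; omega) Ga ⟨(TD L).mapIso ea ≪≫ e₁⟩
      · exact hv r h1 (by simp; omega) Gb ⟨eb⟩
    have hrec := mem_span hL l B S' hS' hB (fun y hy => by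
        obtain ⟨τ, hτ, hgen⟩ := hl y hy.1
        rcases List.mem_cons.1 hτ with rfl | hτ'
        · exact absurd hgen hy.2
        · exact ⟨τ, hτ', hgen⟩) hvB (x ≫ (TD L).map g)
    have hvF₁ : Van F₁ := hv 1 le_rfl (by simp) F₁ ⟨e₁⟩
    have hle : Span L l B ≤ (Span L (σ :: l) F).map
        (Preadditive.rightComp (O₀ X) ((TD L).map g)) := by
      refine (AddSubgroup.closure_le _).2 ?_
      rintro _ ⟨τ, hτ, y, rfl⟩
      obtain ⟨z, hz⟩ := Triangle.coyoneda_exact₃ _ hT y (hvF₁ 1 (by omega) _)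
      refine ⟨z ≫ (sD L τ).app F, AddSubgroup.subset_closure ⟨τ, List.mem_cons_of_mem σ hτ, z, rfl⟩, ?_⟩
      change (z ≫ (sD L τ).app F) ≫ (TD L).map g = y ≫ (sD L τ).app B
      rw [Category.assoc, ← (sD L τ).naturality g, hz, Category.assoc]
      rfl
    obtain ⟨w, hw, hwx⟩ := hle hrec
    change w ≫ (TD L).map g = x ≫ (TD L).map g at hwx
    obtain ⟨y, hy⟩ := Triangle.coyoneda_exact₂ _ hTT (x - w) (by
      change (x - w) ≫ (TD L).map g = 0
      rw [Preadditive.sub_comp, hwx, sub_self])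
    change x - w = y ≫ (TD L).map f at hy
    have hxw : x = w + (y ≫ e₁.hom) ≫ (sD L σ).app F := by
      rw [Category.assoc, ← hf, ← hy, add_sub_cancel]
    rw [hxw]
    exact add_mem hw (AddSubgroup.subset_closure ⟨σ, List.mem_cons_self, y ≫ e₁.hom, rfl⟩)

/-- Twists add up. -/
theorem nonempty_iterT_add (K : DCoh.D X) (p : ℕ) :
    ∀ m : ℕ, Nonempty ((iterT L m).obj ((iterT L p).obj K) ≅ (iterT L (p + m)).obj K)
  | 0 => ⟨Iso.refl _⟩
  | m + 1 => by
    obtain ⟨e⟩ := nonempty_iterT_add K p m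
    exact ⟨(TD L).mapIso e⟩

/-- Twists commute with shifts. -/
theorem nonempty_iterT_shift (K : DCoh.D X) (c : ℤ) :
    ∀ m : ℕ, Nonempty ((iterT L m).obj (K⟦c⟧) ≅ ((iterT L m).obj K)⟦c⟧)
  | 0 => ⟨Iso.refl _⟩
  | m + 1 => by
    obtain ⟨e⟩ := nonempty_iterT_shift K c m
    exact ⟨(TD L).mapIso e ≪≫ ((TD L).commShiftIso c).app _⟩

end SerreDLib
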