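import Groth.Agent.SerreDLib.Kill
import Groth.Agent.KoszOrthLib.PnPC

/-!
# Vanishing of the top cohomology of high twists of pseudo-coherent objects
-/

set_option autoImplicit false
set_option linter.style.haveILetI false
set_option backward.isDefEq.respectTransparency false
set_option backward.isDefEq.respectTransparency.types false
set_option maxHeartbeats 2000000

universe u

open CategoryTheory CategoryTheory.Limits AlgebraicGeometry TopologicalSpace CategoryTheory.Pretriangulated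
open Groth.Agent Groth.Agent.KoszOrthLib

attribute [local instance] HasDerivedCategory.standard

noncomputable section

namespace SerreDLib

/-- On an affine scheme, vanishing of maps from `O` in high degrees bounds the amplitude. -/
theorem isLE_of_hom {S : Scheme.{u}} [IsAffine S] (E : DCoh.D S) (hE : DCoh.IsQCohD E) (c : ℤ)
    (h : ∀ i : ℤ, c < i → ∀ φ : O₀ S ⟶ E⟦i⟧, φ = 0) : E.IsLE c := by
  obtain ⟨M, ⟨e⟩⟩ := exists_tX_iso hE
  obtain ⟨a⟩ := nonempty_tX_kA_nil S
  refine (DerivedCategory.isLE_iff E c).2 fun i hi => ?_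
  have horth : Orth ([] : List (AX S)) M i := fun φ => by
    refine (tX S).map_injective ?_
    let b : (tX S).obj (M⟦i⟧) ≅ E⟦i⟧ := ((tX S).commShiftIso i).app M ≪≫ (shiftFunctor _ i).mapIso e
    rw [(tX S).map_zero, ← cancel_mono b.hom, ← cancel_epi a.inv, zero_comp, comp_zero]
    exact h i hi _
  exact (((Scheme.Modules.restrictFunctor S.isoSpec.hom).map_isZero
    ((tilde.functor (CommRingCat.of (AX S))).map_isZero ((orth_nil_iff M i).1 horth))).of_iso
      (tXHIso i M)).of_iso ((DerivedCategory.homologyFunctor _ i).mapIso e.symm)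

/-- An exact functor preserves upper bounds. -/
theorem isLE_mapDerived {X Z : Scheme.{u}} (F : X.Modules ⥤ Z.Modules) [F.Additive] [PreservesFiniteLimits F]
    [PreservesFiniteColimits F] (K : DCoh.D X) (c : ℤ) [K.IsLE c] : (F.mapDerivedCategory.obj K).IsLE c :=
  (DerivedCategory.isLE_iff _ c).2 fun i hi => (F.map_isZero (DerivedCategory.isZero_of_isLE K c i hi)).of_iso
    ((DerLib.ExactHomology.homologyIso F i).app K)

variable {X Y : Scheme.{u}} (f : X ⟶ Y) [IsAffine Y] [QuasiCompact f] [QuasiSeparated f] [DCoh.HasRpush f]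
  [(DCoh.Rpush f).CommShift ℤ] [(DCoh.Rpush f).IsTriangulated]

/-- Maps out of `O` in degrees above the amplitude of the direct image vanish. -/
theorem hom_eq_zero_of_isLE (E : DCoh.D X) (hE : DCoh.IsQCohD E) (c : ℤ)
    [((DCoh.Rpush f).obj E).IsLE c] {i : ℤ} (hi : c < i) (φ : O₀ X ⟶ E⟦i⟧) : φ = 0 := by
  obtain ⟨η, hη⟩ := exists_unit_rpush f
  refine (hη _).1 (?_ : η ≫ (DCoh.Rpush f).map φ = η ≫ (DCoh.Rpush f).map 0)
  rw [(DCoh.Rpush f).map_zero, comp_zero]
  exact zero_of_comp_mono (((DCoh.Rpush f).commShiftIso i).app E).hom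
    (hom_unit_shift_eq_zero_of_isLE (QRlimLib.isQCohD_rpush f hE) c hi _)

/-- Finitely many generators of `Hom(O, K)`. -/
theorem exists_gens (K : DCoh.D X) (hK : DCoh.IsQCohD K) [((DCoh.Rpush f).obj K).IsLE 0]
    (hpc : DCoh.IsPseudoCoherentD 0 ((DCoh.Rpush f).obj K)) :
    ∃ G : Finset (O₀ X ⟶ K), ∀ y : O₀ X ⟶ K,
      y ∈ AddSubgroup.closure {z : O₀ X ⟶ K | ∃ (ρ : O₀ X ⟶ O₀ X) (g : O₀ X ⟶ K), g ∈ G ∧ z = ρ ≫ g} := by
  classical
  obtain ⟨η, hη⟩ := exists_unit_rpush f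
  obtain ⟨M, ⟨e⟩⟩ := exists_tX_iso (QRlimLib.isQCohD_rpush f hK)
  obtain ⟨a⟩ := nonempty_tX_kA_nil Y
  haveI : (DCoh.Rpush f).Additive := inferInstance
  let H := DerivedCategory.homologyFunctor (ModuleCat.{u} (AX Y)) 0
  have hM : DRing.IsPseudoCoherent (AX Y) 0 M := isPC_of_tX (PerfLib.isPC_of_iso e.symm hpc)
  have hMz : ∀ i, (0 : ℤ) < i → IsZero ((DerivedCategory.homologyFunctor (ModuleCat.{u} (AX Y)) i).obj M) := by
    intro i hi
    haveI : ((tX Y).obj M).IsLE 0 := DerivedCategory.TStructure.t.isLE_of_iso e.symm 0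
    refine (orth_nil_iff M i).1 fun φ => ?_
    refine (tX Y).map_injective ?_
    let b := ((tX Y).commShiftIso i).app M
    rw [(tX Y).map_zero, ← cancel_mono b.hom, ← cancel_epi a.inv, zero_comp, comp_zero]
    exact hom_unit_shift_eq_zero_of_isLE (isQCohD_tX M) 0 hi _
  haveI := DRingLib.finite_of_isPseudoCoherent hM hMz
  obtain ⟨s, hs⟩ := Module.Finite.fg_top (R := AX Y) (M := H.obj M)
  -- transfer to `X`
  let Φ : (kA ([] : List (AX Y)) ⟶ M) → (O₀ X ⟶ K) := fun g =>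
    (Equiv.ofBijective _ (hη K)).symm (a.inv ≫ (tX Y).map g ≫ e.hom)
  have hΦ : ∀ g, η ≫ (DCoh.Rpush f).map (Φ g) = a.inv ≫ (tX Y).map g ≫ e.hom := fun g =>
    Equiv.apply_symm_apply (Equiv.ofBijective _ (hη K)) _
  -- generators indexed by elements
  let gx : H.obj M → (kA ([] : List (AX Y)) ⟶ M) := fun x =>
    ((TildeDerLib.bijective_ev 0 M).2 (ModuleCat.ofHom (LinearMap.toSpanSingleton (AX Y) _ x))).choose
  have hgx : ∀ x, TildeDerLib.ev (gx x) = ModuleCat.ofHom (LinearMap.toSpanSingleton (AX Y) _ x) := fun x =>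
    ((TildeDerLib.bijective_ev 0 M).2 (ModuleCat.ofHom (LinearMap.toSpanSingleton (AX Y) _ x))).choose_spec
  let G : Finset (O₀ X ⟶ K) := s.image fun x => Φ (gx x)
  let C : AddSubgroup (O₀ X ⟶ K) := AddSubgroup.closure
    {z : O₀ X ⟶ K | ∃ (ρ : O₀ X ⟶ O₀ X) (g : O₀ X ⟶ K), g ∈ G ∧ z = ρ ≫ g}
  have hadd : ∀ g g', Φ (g + g') = Φ g + Φ g' := fun g g' => (hη K).1 (by
    change η ≫ (DCoh.Rpush f).map (Φ (g + g')) = η ≫ (DCoh.Rpush f).map (Φ g + Φ g')
    simp only [Functor.map_add, Preadditive.comp_add, hΦ, Preadditive.add_comp])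
  have hzero : Φ 0 = 0 := (hη K).1 (by
    change η ≫ (DCoh.Rpush f).map (Φ 0) = η ≫ (DCoh.Rpush f).map 0
    simp only [Functor.map_zero, comp_zero, hΦ, zero_comp])
  -- endomorphisms of `O`
  have hcomp : ∀ (ρ : kA ([] : List (AX Y)) ⟶ kA ([] : List (AX Y))) (g : kA ([] : List (AX Y)) ⟶ M),
      ∃ ρ' : O₀ X ⟶ O₀ X, Φ (ρ ≫ g) = ρ' ≫ Φ g := fun ρ g => by
    obtain ⟨ρ', hρ'⟩ := (hη (O₀ X)).2 ((a.inv ≫ (tX Y).map ρ ≫ a.hom) ≫ η)
    refine ⟨ρ', (hη K).1 ?_⟩
    change η ≫ (DCoh.Rpush f).map (Φ (ρ ≫ g)) = η ≫ (DCoh.Rpush f).map (ρ' ≫ Φ g)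
    change η ≫ (DCoh.Rpush f).map ρ' = _ at hρ'
    rw [Functor.map_comp, ← Category.assoc η, hρ', Category.assoc, hΦ, hΦ]
    simp only [Functor.map_comp, Category.assoc, Iso.hom_inv_id_assoc]
  have key : ∀ x : H.obj M, ∀ g : kA ([] : List (AX Y)) ⟶ M,
      TildeDerLib.ev g = ModuleCat.ofHom (LinearMap.toSpanSingleton (AX Y) _ x) → Φ g ∈ C := by
    intro x
    have hx : x ∈ Submodule.span (AX Y) (s : Set (H.obj M)) := by rw [hs]; trivial
    induction hx using Submodule.span_induction with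
    | mem x hx =>
      intro g hg
      have : g = gx x := (TildeDerLib.bijective_ev 0 M).1 (hg.trans (hgx x).symm)
      subst this
      exact AddSubgroup.subset_closure ⟨𝟙 _, Φ (gx x), Finset.mem_image_of_mem _ hx, (Category.id_comp _).symm⟩
    | zero =>
      intro g hg
      have : g = 0 := (TildeDerLib.bijective_ev 0 M).1 (by
        change TildeDerLib.ev g = TildeDerLib.ev 0
        rw [hg, TildeDerLib.ev, Functor.map_zero, comp_zero]
        ext; simp)
      rw [this, hzero]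
      exact zero_mem _
    | add x y _ _ hx hy =>
      intro g hg
      have : g = gx x + gx y := (TildeDerLib.bijective_ev 0 M).1 (by
        change TildeDerLib.ev g = TildeDerLib.ev (gx x + gx y)
        rw [hg, TildeDerLib.ev, Functor.map_add, Preadditive.comp_add]
        rw [show (TildeDerLib.genH (AX Y) 0).hom ≫ H.map (gx x) = _ from hgx x,
          show (TildeDerLib.genH (AX Y) 0).hom ≫ H.map (gx y) = _ from hgx y]
        ext; simp)
      rw [this, hadd]
      exact add_mem (hx _ (hgx x)) (hy _ (hgx y))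
    | smul r x _ hx =>
      intro g hg
      obtain ⟨ρ, hρ⟩ := (TildeDerLib.bijective_ev 0 (kA ([] : List (AX Y)))).2
        (ModuleCat.ofHom (r • LinearMap.id) ≫ (TildeDerLib.genH (AX Y) 0).hom)
      change TildeDerLib.ev ρ = _ at hρ
      have : g = ρ ≫ gx x := (TildeDerLib.bijective_ev 0 M).1 (by
        change TildeDerLib.ev g = TildeDerLib.ev (ρ ≫ gx x)
        rw [hg, TildeDerLib.ev_comp, hρ, Category.assoc,
          show (TildeDerLib.genH (AX Y) 0).hom ≫ H.map (gx x) = _ from hgx x]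
        ext; simp)
      obtain ⟨ρ', hρ'⟩ := hcomp ρ (gx x)
      rw [this, hρ']
      have h1 : ρ' ≫ Φ (gx x) ∈ C.map (Preadditive.leftComp K ρ') := ⟨_, hx _ (hgx x), rfl⟩
      rw [AddMonoidHom.map_closure] at h1
      refine AddSubgroup.closure_mono ?_ h1
      rintro _ ⟨_, ⟨τ, g₀, hg₀, rfl⟩, rfl⟩
      exact ⟨ρ' ≫ τ, g₀, hg₀, ((Category.assoc ρ' τ g₀).symm :)⟩
  refine ⟨G, fun y => ?_⟩
  obtain ⟨g, hg⟩ := (tX Y).map_surjective (a.hom ≫ (η ≫ (DCoh.Rpush f).map y) ≫ e.inv)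
  have hy : y = Φ g := (hη K).1 (by
    change η ≫ (DCoh.Rpush f).map y = η ≫ (DCoh.Rpush f).map (Φ g)
    rw [hΦ, hg]
    simp only [Category.assoc, Iso.inv_hom_id, Category.comp_id, Iso.inv_hom_id_assoc])
  rw [hy]
  refine key ((TildeDerLib.ev g).hom 1) g ?_
  ext
  exact (one_smul (AX Y) _).symm

/-- **Vanishing for high twists.** -/
theorem exists_hom_bound [CompactSpace X] [QuasiSeparatedSpace X] (L : X.Modules)
    [PreservesFiniteLimits (DCoh.tensorRightMod L)] [PreservesFiniteColimits (DCoh.tensorRightMod L)]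
    (hL : PicF.IsInvertible L) {q : ℕ} (σ : Fin q → Γ(L, ⊤)) (U : Fin q → X.Opens)
    (hU : ∀ j y, y ∈ U j ↔ AmpleLib.GenAt L (σ j) (show y ∈ (⊤ : X.Opens) from trivial))
    (hUa : ∀ j, IsAffineOpen (U j)) (hcov : ∀ y : X, ∃ j, y ∈ U j)
    (C : DCoh.D X) (hC : DCoh.IsQCohD C) (a : ℤ) [C.IsLE a] (b : ℤ)
    (hamp : ∀ m : ℕ, ((DCoh.Rpush f).obj ((iterT L m).obj C)).IsLE b)
    (hpc : ∀ (m : ℕ) (k : ℤ), DCoh.IsPseudoCoherentD k ((DCoh.Rpush f).obj ((iterT L m).obj C))) :
    ∃ N : ℕ, ∀ m : ℕ, N ≤ m → ((DCoh.Rpush f).obj ((iterT L m).obj C)).IsLE a := by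
  classical
  suffices h : ∀ (k : ℕ) (c : ℤ), c = b - k → a ≤ c →
      ∃ N : ℕ, ∀ m : ℕ, N ≤ m → ((DCoh.Rpush f).obj ((iterT L m).obj C)).IsLE c by
    by_cases hab : a ≤ b
    · exact h (b - a).toNat a (by omega) le_rfl
    · exact ⟨0, fun m _ => haveI := hamp m; DerivedCategory.TStructure.t.isLE_of_le _ b a (by omega)⟩
  intro k
  induction k with
  | zero =>
    intro c hc _
    rw [show c = b by simpa using hc]
    exact ⟨0, fun m _ => hamp m⟩
  | succ k ih =>
    intro c hc hac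
    obtain ⟨N, hN⟩ := ih (c + 1) (by omega) (by omega)
    let p := N + q
    let K : DCoh.D X := ((iterT L p).obj C)⟦c + 1⟧
    have hK : DCoh.IsQCohD K := KFlatLib.isQCohD_shift (isQCohD_iterT hL hC p) (c + 1)
    haveI : ((DCoh.Rpush f).obj K).IsLE 0 := by
      haveI := hN p (by omega)
      haveI : DerivedCategory.TStructure.t.IsLE
          ((DCoh.Rpush f ⋙ shiftFunctor (DCoh.D Y) (c + 1)).obj ((iterT L p).obj C)) 0 :=
        DerivedCategory.TStructure.t.isLE_shift ((DCoh.Rpush f).obj ((iterT L p).obj C)) (c + 1) (c + 1) 0 (by omega)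
      exact DerivedCategory.TStructure.t.isLE_of_iso (((DCoh.Rpush f).commShiftIso (c + 1)).app _).symm 0
    obtain ⟨G, hG⟩ := exists_gens f K hK
      (PerfLib.isPC_of_iso (((DCoh.Rpush f).commShiftIso (c + 1)).app _).symm
        (by simpa using PerfLib.isPC_shift (hpc p (0 + (c + 1))) (c + 1)))
    have hres : ∀ (j : Fin q) (g : O₀ X ⟶ K), (DCoh.restrictD (U j).ι).map g = 0 := fun j g => by
      haveI : IsAffine (U j : Scheme.{u}) := hUa j
      haveI : ∀ m : ℕ, ((iterT L m).obj C).IsLE a := fun m => by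
        induction m with
        | zero => exact ‹C.IsLE a›
        | succ m ih' =>
          haveI := ih'
          exact isLE_mapDerived (DCoh.tensorRightMod L) ((iterT L m).obj C) a
      haveI : ((DCoh.restrictD (U j).ι).obj ((iterT L p).obj C)).IsLE a :=
        isLE_mapDerived (Scheme.Modules.restrictFunctor (U j).ι) _ a
      let eO : (DCoh.restrictD (U j).ι).obj (O₀ X) ≅ O₀ (U j : Scheme.{u}) := DualCxLib.restrictInDUnit (U j).ι
      let eK := ((DCoh.restrictD (U j).ι).commShiftIso (c + 1)).app ((iterT L p).obj C)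
      refine zero_of_epi_comp eO.inv (zero_of_comp_mono eK.hom ?_)
      exact hom_unit_shift_eq_zero_of_isLE (isQCohD_restrictD _ (isQCohD_iterT hL hC p)) a (by omega) _
    choose Nk hNk using fun (j : Fin q) (g : O₀ X ⟶ K) =>
      exists_kill L hL (σ j) (U j) (hU j) (hUa j).isCompact K hK g (hres j g)
    let l : ℕ := (Finset.univ ×ˢ G).sup fun jg => Nk jg.1 jg.2
    have hl : ∀ (j : Fin q) (y : O₀ X ⟶ K), y ≫ (iterS L (σ j) l).app K = 0 := fun j y => by
      refine AddSubgroup.closure_induction (p := fun z _ => z ≫ (iterS L (σ j) l).app K = 0) ?_ ?_ ?_ ?_ (hG y)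
      · rintro _ ⟨ρ, g, hg, rfl⟩
        obtain ⟨d, hd⟩ := Nat.exists_eq_add_of_le (Finset.le_sup
          (f := fun jg : Fin q × (O₀ X ⟶ K) => Nk jg.1 jg.2) (Finset.mk_mem_product (Finset.mem_univ j) hg))
        have h2 := kill_mono L (hNk j g) d
        rw [show l = Nk j g + d from hd, Category.assoc, h2, comp_zero]
      · exact zero_comp
      · intro z w _ _ hz hw
        rw [Preadditive.add_comp, hz, hw, add_zero]
      · intro z _ hz
        rw [Preadditive.neg_comp, hz, neg_zero]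
    have eTm : ∀ m : ℕ, Nonempty ((iterT L m).obj K ≅ ((iterT L (p + m)).obj C)⟦c + 1⟧) := fun m => by
      obtain ⟨e₁⟩ := nonempty_iterT_shift L ((iterT L p).obj C) (c + 1) m
      obtain ⟨e₂⟩ := nonempty_iterT_add L C p m
      exact ⟨e₁ ≪≫ (shiftFunctor (DCoh.D X) (c + 1)).mapIso e₂⟩
    have hvan : ∀ m : ℕ, N ≤ m → Van (((iterT L m).obj C)⟦c + 1⟧) := fun m hm i hi φ => by
      haveI := hN m hm
      exact zero_of_comp_mono ((shiftFunctorAdd' (DCoh.D X) (c + 1) i (c + 1 + i) rfl).app _).inv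
        (hom_eq_zero_of_isLE f _ (isQCohD_iterT hL hC m) (c + 1) (show c + 1 < c + 1 + i by omega) _)
    have surj : ∀ (m : ℕ) (x : O₀ X ⟶ (iterT L (m + 1)).obj K),
        x ∈ Span L (List.ofFn σ) ((iterT L m).obj K) := fun m x => by
      refine mem_span L hL (List.ofFn σ) ((iterT L m).obj K) Set.univ isClosed_univ
        (fun i => Set.subset_univ _) (fun y _ => ?_) (fun r _ hr G' ⟨eG⟩ => ?_) x
      · obtain ⟨j, hj⟩ := hcov y
        exact ⟨σ j, List.mem_ofFn.2 ⟨j, rfl⟩, (hU j y).1 hj⟩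
      · rw [List.length_ofFn] at hr
        obtain ⟨e₀⟩ := eTm m
        obtain ⟨e₁⟩ := nonempty_iterT_shift L ((iterT L (p + m - r)).obj C) (c + 1) r
        obtain ⟨e₂⟩ := nonempty_iterT_add L C (p + m - r) r
        haveI := isEquivalence_iterT hL r
        let e₃ : (iterT L r).obj (((iterT L (p + m - r)).obj C)⟦c + 1⟧) ≅ (iterT L r).obj G' :=
          e₁ ≪≫ (shiftFunctor (DCoh.D X) (c + 1)).mapIso
            (e₂ ≪≫ eqToIso (congrArg (fun t => (iterT L t).obj C) (show p + m - r + r = p + m by omega))) ≪≫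
              e₀.symm ≪≫ eG.symm
        exact Van.of_iso ((iterT L r).preimageIso e₃) (hvan _ (by omega))
    refine ⟨p + (q * l + 1), fun m hm => ?_⟩
    haveI := hN m (by omega)
    refine isLE_of_hom _ (QRlimLib.isQCohD_rpush f (isQCohD_iterT hL hC m)) c fun i hi φ => ?_
    obtain ⟨η, hη⟩ := exists_unit_rpush f
    let eR := ((DCoh.Rpush f).commShiftIso i).app ((iterT L m).obj C)
    refine zero_of_comp_mono eR.inv ?_
    obtain ⟨ψ, hψ⟩ := (hη (((iterT L m).obj C)⟦i⟧)).2 (φ ≫ eR.inv)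
    change η ≫ (DCoh.Rpush f).map ψ = _ at hψ
    rw [← hψ]
    suffices ψ = 0 by rw [this, Functor.map_zero, comp_zero]
    by_cases hi' : c + 1 < i
    · exact hom_eq_zero_of_isLE f _ (isQCohD_iterT hL hC m) (c + 1) hi' ψ
    · obtain rfl : i = c + 1 := by omega
      obtain ⟨d, rfl⟩ : ∃ d, m = p + d := ⟨m - p, by omega⟩
      obtain ⟨e₀⟩ := eTm d
      exact zero_of_comp_mono e₀.inv (eq_zero_of_large L σ K surj l hl d (by omega) _)

end SerreDLib
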